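import Cfsg.Agent.H133.PB.Basic
import Cfsg.Agent.S0947
import Cfsg.Agent.S0161
import Cfsg.Agent.Blocks.Knorr

/-!
# Even degrees in principal `q`-blocks, `q` odd (helper133)

`g ≠ 1` a real `q`-element such that the principal `q`-block of `C_G(g)` has odd dimension: the principal `q`-block of `G`
has a member of even degree.

* `BD.of_odd_sum` : general version;
* `BD.of_real_nilpotent` : `C_G(g)` has a normal `q`-complement;
* `BD.of_real_odd` : `|C_G(g)|` is odd.
-/

set_option autoImplicit false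

open Cfsg

namespace Cfsg.Agent.H133.PB

open Cfsg.Agent.Characters.Core Cfsg.Agent.Blocks.Basic Cfsg.Agent.Blocks.Local
open scoped ComplexConjugate

universe u

variable {G : Type u} [Group G] [Finite G] {q : ℕ} [hq : Fact q.Prime]

theorem real_value {χ : G → ℂ} (hχ : IsIrrCharacter G χ) {g : G} (hr : IsConj g g⁻¹) :
    conj (χ g) = χ g := by
  rw [← isCharacter_apply_inv (isIrr_isCharacter hχ) g]
  obtain ⟨c, hc⟩ := isConj_iff.1 hr
  rw [← hc]
  exact irr_conj hχ g c

/-- If the sum of the squares of the degrees in the principal `q`-block of `C_G(g)` is odd, `g` a real `q`-element, then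
the principal `q`-block of `G` has an even degree. -/
theorem BD.of_odd_sum {g : G} (hg : ∃ k : ℕ, orderOf g = q ^ k) (hg1 : g ≠ 1) (hr : IsConj g g⁻¹)
    (h : ∀ M : Ideal AlgInt, IsPModular q M → ∃ N : ℕ, Odd N ∧
      ∑ᶠ ζ ∈ principalBlock M (Subgroup.centralizer ({g} : Set G)),
        ‖(ζ : Subgroup.centralizer ({g} : Set G) → ℂ) 1‖ ^ 2 = (N : ℝ)) :
    BD 2 q G := by
  classical
  intro M hM
  by_contra hcon
  push Not at hcon
  have hMp : M.IsPrime := isPrime_of_isPModular hM
  obtain ⟨N, hN, hsum⟩ := h M hM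
  obtain ⟨k, hk⟩ := hg
  have hk0 : k ≠ 0 := by
    rintro rfl
    rw [pow_zero, orderOf_eq_one_iff] at hk
    exact hg1 hk
  have hqg : q ∣ orderOf g := by rw [hk]; exact dvd_pow_self q hk0
  have hfin : Finite (IrrCharacter G) := finite_irr
  have := Fintype.ofFinite (IrrCharacter G)
  set s : Finset (IrrCharacter G) := (Set.toFinite (principalBlock M G)).toFinset with hs
  have hmem : ∀ χ : IrrCharacter G, χ ∈ s ↔ χ ∈ principalBlock M G := fun χ => by
    rw [hs, Set.Finite.mem_toFinset]
  -- the two sums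
  have h1 := (S0947.result q M hM g ⟨k, hk⟩ hg1 1 (by
    rw [orderOf_one]; exact (Fact.out : q.Prime).one_lt.ne' ∘ Nat.dvd_one.1)).1
  rw [Subgroup.coe_one, mul_one, hsum, finsum_mem_eq_finite_toFinset_sum _ (Set.toFinite _)] at h1
  have h2 := S0907.result q M hM (principalBlock M G) ⟨⟨fun _ => 1, isIrrCharacter_one⟩, rfl⟩ 1 g
    (by rw [orderOf_one]; exact (Fact.out : q.Prime).one_lt.ne' ∘ Nat.dvd_one.1) hqg
  rw [finsum_mem_eq_finite_toFinset_sum _ (Set.toFinite _)] at h2
  rw [← hs] at h1 h2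
  -- integers
  let c : IrrCharacter G → AlgInt := fun χ => ⟨(χ : G → ℂ) g, S4483.isIntegral_irr χ.2 g⟩
  have e1 : ∑ χ ∈ s, (charDegree (χ : G → ℂ) : AlgInt) * c χ = 0 := by
    apply Subtype.ext
    rw [AddSubmonoidClass.coe_finsetSum]
    rw [ZeroMemClass.coe_zero, ← h2]
    refine Finset.sum_congr rfl fun χ _ => ?_
    rw [real_value χ.2 hr, irr_one_eq_charDegree χ.2]
    rfl
  have e2 : ∑ χ ∈ s, c χ ^ 2 = (N : AlgInt) := by
    apply Subtype.ext
    rw [AddSubmonoidClass.coe_finsetSum]
    have h3 : ((N : AlgInt) : ℂ) = ((N : ℝ) : ℂ) := by push_cast; rfl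
    rw [h3, ← h1]
    push_cast
    refine Finset.sum_congr rfl fun χ _ => ?_
    have h4 : (χ : G → ℂ) g * conj ((χ : G → ℂ) g) = ((‖(χ : G → ℂ) g‖ ^ 2 : ℝ) : ℂ) := by
      rw [Complex.mul_conj, Complex.normSq_eq_norm_sq]
    rw [real_value χ.2 hr] at h4
    push_cast at h4
    rw [← h4]
    show (χ : G → ℂ) g ^ 2 = _
    rw [sq]
  -- modulo 2
  obtain ⟨M2, hM2⟩ := Cfsg.Agent.Blocks.Knorr.exists_isPModular 2
  have hp2 : M2.IsPrime := isPrime_of_isPModular hM2
  let φ := Ideal.Quotient.mk M2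
  have h2M : (2 : AlgInt) ∈ M2 := by have := hM2.2.2; simpa using this
  have hchar : CharP (AlgInt ⧸ M2) 2 := by
    refine CharTwo.of_one_ne_zero_of_two_eq_zero one_ne_zero ?_
    have : φ 2 = 0 := Ideal.Quotient.eq_zero_iff_mem.2 h2M
    rw [← this]
    exact (map_ofNat φ 2).symm
  have hodd : ∀ n : ℕ, Odd n → φ (n : AlgInt) = 1 := by
    rintro n ⟨m, rfl⟩
    rw [map_natCast]
    push_cast
    rw [CharTwo.two_eq_zero]
    ring
  have e3 : ∑ χ ∈ s, φ (c χ) = 0 := by
    have h5 := congrArg φ e1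
    rw [map_sum, map_zero] at h5
    rw [← h5]
    refine Finset.sum_congr rfl fun χ hχ => ?_
    rw [map_mul, hodd _ ?_, one_mul]
    rw [← Nat.not_even_iff_odd, even_iff_two_dvd]
    exact hcon χ ((hmem χ).1 hχ)
  have e4 := congrArg φ e2
  rw [hodd N hN, map_sum] at e4
  have e5 : ∑ χ ∈ s, φ (c χ ^ 2) = (∑ χ ∈ s, φ (c χ)) ^ 2 := by
    rw [CharTwo.sum_sq]
    exact Finset.sum_congr rfl fun χ _ => map_pow _ _ _
  rw [e5, e3] at e4
  have : (0 : AlgInt ⧸ M2) = 1 := by rw [← e4]; ring
  exact zero_ne_one this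

/-- A real `q`-element, `q` odd, whose centralizer has a normal `q`-complement. -/
theorem BD.of_real_nilpotent (hq2 : q ≠ 2) {g : G} (hg : ∃ k : ℕ, orderOf g = q ^ k) (hg1 : g ≠ 1)
    (hr : IsConj g g⁻¹)
    (h : ∃ k : ℕ, (pPrimeCore q (Subgroup.centralizer ({g} : Set G))).index = q ^ k) :
    BD 2 q G := by
  apply BD.of_odd_sum hg hg1 hr
  intro M hM
  have h1 := (S0947.result q M hM g hg hg1 1 (by
    rw [orderOf_one]; exact (Fact.out : q.Prime).one_lt.ne' ∘ Nat.dvd_one.1))
  refine ⟨_, ?_, (h1.1.symm.trans (h1.2 h))⟩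
  exact (hq.out.odd_of_ne_two hq2).pow

/-- The complex conjugate irreducible character. -/
noncomputable def cj (χ : IrrCharacter G) : IrrCharacter G :=
  ⟨fun g => conj ((χ : G → ℂ) g), isIrr_conj χ.2⟩

theorem cj_mem {M : Ideal AlgInt} {χ : IrrCharacter G} (h : χ ∈ principalBlock M G) :
    cj χ ∈ principalBlock M G := by
  intro g
  have h1 := h g⁻¹
  have h2 : Subgroup.centralizer ({g⁻¹} : Set G) = Subgroup.centralizer ({g} : Set G) := by
    ext x
    rw [Subgroup.mem_centralizer_singleton_iff, Subgroup.mem_centralizer_singleton_iff]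
    constructor
    · intro h3
      have h4 : Commute x g⁻¹ := h3
      exact (Commute.inv_right_iff.1 h4)
    · intro h3
      have h4 : Commute x g := h3
      exact (Commute.inv_right_iff.2 h4)
  have h3 : centralChar (χ : G → ℂ) g⁻¹ = centralChar (cj χ : G → ℂ) g := by
    unfold centralChar
    rw [h2]
    have h4 : (cj χ : G → ℂ) g = (χ : G → ℂ) g⁻¹ := (isCharacter_apply_inv (isIrr_isCharacter χ.2) g).symm
    have h5 : (cj χ : G → ℂ) 1 = (χ : G → ℂ) 1 := by
      show conj ((χ : G → ℂ) 1) = _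
      rw [irr_one_eq_charDegree χ.2]
      simp
    rw [h4, h5]
  have h4 : centralChar (fun _ : G => (1 : ℂ)) g⁻¹ = centralChar (fun _ : G => (1 : ℂ)) g := by
    unfold centralChar
    rw [h2]
  rw [h3, h4] at h1
  exact h1

/-- In a group of odd order the dimension of a principal block is odd. -/
theorem odd_sum_of_odd (hodd : Odd (Nat.card G)) {M : Ideal AlgInt} (hM : IsPModular q M) :
    ∃ N : ℕ, Odd N ∧ ∑ᶠ ζ ∈ principalBlock M G, ‖(ζ : G → ℂ) 1‖ ^ 2 = (N : ℝ) := by
  classical
  have hMp : M.IsPrime := isPrime_of_isPModular hM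
  have hfin : Finite (IrrCharacter G) := finite_irr
  have := Fintype.ofFinite (IrrCharacter G)
  set s : Finset (IrrCharacter G) := (Set.toFinite (principalBlock M G)).toFinset with hs
  have hmem : ∀ χ : IrrCharacter G, χ ∈ s ↔ χ ∈ principalBlock M G := fun χ => by
    rw [hs, Set.Finite.mem_toFinset]
  set t : IrrCharacter G := ⟨fun _ => 1, isIrrCharacter_one⟩ with ht
  have htB : t ∈ s := by
    rw [hmem]
    show SameBlock M (fun _ : G => (1 : ℂ)) (fun _ : G => (1 : ℂ))
    intro g
    rw [sub_self]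
    exact memLocalIdeal_zero
  refine ⟨∑ χ ∈ s, charDegree (χ : G → ℂ) ^ 2, ?_, ?_⟩
  · have h1 : ((∑ χ ∈ s, charDegree (χ : G → ℂ) ^ 2 : ℕ) : ZMod 2) = 1 := by
      push_cast
      rw [← Finset.add_sum_erase s _ htB]
      have h2 : ∑ χ ∈ s.erase t, ((charDegree (χ : G → ℂ) : ZMod 2)) ^ 2 = 0 := by
        refine Finset.sum_involution (fun χ _ => cj χ) ?_ ?_ ?_ ?_
        · intro χ _
          have h3 : charDegree (cj χ : G → ℂ) = charDegree (χ : G → ℂ) := by
            have h4 : ((charDegree (cj χ : G → ℂ) : ℕ) : ℂ) = (charDegree (χ : G → ℂ) : ℂ) := by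
              rw [← irr_one_eq_charDegree (cj χ).2, ← irr_one_eq_charDegree χ.2]
              show conj ((χ : G → ℂ) 1) = _
              rw [irr_one_eq_charDegree χ.2]
              simp
            exact_mod_cast h4
          rw [h3]
          exact CharTwo.add_self_eq_zero _
        · intro χ hχ _ h3
          apply (Finset.mem_erase.1 hχ).1
          apply Subtype.ext
          apply S0161.result hodd χ
          intro g
          have h4 : conj ((χ : G → ℂ) g) = (χ : G → ℂ) g := congrFun (congrArg Subtype.val h3) g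
          exact Complex.conj_eq_iff_im.1 h4
        · intro χ hχ
          rw [Finset.mem_erase] at hχ ⊢
          refine ⟨?_, ?_⟩
          · intro h3
            apply hχ.1
            apply Subtype.ext
            funext g
            have h4 : conj ((χ : G → ℂ) g) = 1 := congrFun (congrArg Subtype.val h3) g
            have h5 := congrArg conj h4
            rw [Complex.conj_conj, map_one] at h5
            exact h5
          · rw [hmem]
            exact cj_mem ((hmem χ).1 hχ.2)
        · intro χ _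
          apply Subtype.ext
          funext g
          exact Complex.conj_conj _
      rw [h2, add_zero]
      have h3 : charDegree (t : G → ℂ) = 1 := by
        have h4 : ((charDegree (t : G → ℂ) : ℕ) : ℂ) = ((1 : ℕ) : ℂ) := by
          rw [← irr_one_eq_charDegree t.2]
          simp [ht]
        exact_mod_cast h4
      rw [h3]
      simp
    rw [← Nat.not_even_iff_odd, even_iff_two_dvd, ← ZMod.natCast_eq_zero_iff, h1]
    exact one_ne_zero
  · rw [finsum_mem_eq_finite_toFinset_sum _ (Set.toFinite _), ← hs]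
    push_cast
    refine Finset.sum_congr rfl fun χ _ => ?_
    rw [irr_one_eq_charDegree χ.2]
    simp

/-- A real `q`-element with centralizer of odd order. -/
theorem BD.of_real_odd {g : G} (hg : ∃ k : ℕ, orderOf g = q ^ k) (hg1 : g ≠ 1)
    (hr : IsConj g g⁻¹) (h : Odd (Nat.card (Subgroup.centralizer ({g} : Set G)))) :
    BD 2 q G :=
  BD.of_odd_sum hg hg1 hr fun _ hM => odd_sum_of_odd h hM

/-- A real `q`-element with centralizer of odd order settles the prime `2`. -/
theorem Row.of_real_odd {g : G} (hg : ∃ k : ℕ, orderOf g = q ^ k) (hg1 : g ≠ 1)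
    (hr : IsConj g g⁻¹) (h : Odd (Nat.card (Subgroup.centralizer ({g} : Set G)))) :
    Row 2 G := by
  obtain ⟨k, hk⟩ := hg
  have hk0 : k ≠ 0 := by
    rintro rfl
    rw [pow_zero, orderOf_eq_one_iff] at hk
    exact hg1 hk
  have hqg : q ∣ orderOf g := by rw [hk]; exact dvd_pow_self q hk0
  refine Row.intro hq.out ?_ (hqg.trans (orderOf_dvd_natCard g)) (BD.of_real_odd ⟨k, hk⟩ hg1 hr h)
  rintro rfl
  have h1 : orderOf g ∣ Nat.card (Subgroup.centralizer ({g} : Set G)) := by
    have h2 : orderOf (⟨g, Subgroup.mem_centralizer_singleton_iff.2 rfl⟩ :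
        Subgroup.centralizer ({g} : Set G)) = orderOf g := by rw [Subgroup.orderOf_mk]
    rw [← h2]
    exact orderOf_dvd_natCard _
  exact (Nat.not_even_iff_odd.2 h) (even_iff_two_dvd.2 (hqg.trans h1))

end Cfsg.Agent.H133.PB
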