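import Cfsg.Agent.H133.PB.Local

/-!
# Corollaries of the lifting lemma (helper133)

* `DZB p q K` : `K` has a member of `p`-defect zero in the principal `q`-block.
* `BD.of_hom` : `D` a `p`-subgroup, `x ∈ D`, `f : C_G(x) → K` onto with kernel `D`, `DZB p q K`.
* `BD.of_elem` : `x` of order `p`, `p² ∣ |G|`, `f : C_G(x) → K` onto with kernel `⟨x⟩`, `DZB p q K`.
-/

set_option autoImplicit false

open Cfsg

namespace Cfsg.Agent.H133.PB

open Cfsg.Agent.Characters.Core Cfsg.Agent.Blocks.Basic Cfsg.Agent.Blocks.Local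
open scoped ComplexConjugate

universe u v

/-- `K` has an irreducible character of `p`-defect zero in the principal `q`-block. -/
def DZB (p q : ℕ) (K : Type v) [Group K] : Prop :=
  ∃ θ : IrrCharacter K, (∀ M : Ideal AlgInt, IsPModular q M → θ ∈ principalBlock M K) ∧
    (Nat.card K).factorization p ≤ (charDegree (θ : K → ℂ)).factorization p

theorem mem_principalBlock_all {K : Type v} [Group K] [Finite K] {q : ℕ} [Fact q.Prime] {M : Ideal AlgInt}
    (hM : IsPModular q M) {χ : IrrCharacter K} (h : χ ∈ principalBlock M K) (M' : Ideal AlgInt)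
    (hM' : IsPModular q M') : χ ∈ principalBlock M' K := by
  have hMp : M.IsPrime := isPrime_of_isPModular hM
  have hMp' : M'.IsPrime := isPrime_of_isPModular hM'
  intro g
  obtain ⟨r, hr, hr2⟩ := S0902.result q M hM ⟨_, isIrrCharacter_one⟩ χ h M' hM' g
  have h1 : MemLocalIdeal M' (r : ℂ) := memLocalIdeal_of_mem hr
  rw [hr2] at h1
  exact h1

/-- A real character of odd degree and of `p`-defect zero. -/
theorem DZB.of_real {K : Type v} [Group K] [Finite K] {p : ℕ} (χ : IrrCharacter K)
    (hr : ∀ g : K, ((χ : K → ℂ) g).im = 0) (ho : Odd (charDegree (χ : K → ℂ)))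
    (hp : (Nat.card K).factorization p ≤ (charDegree (χ : K → ℂ)).factorization p) : DZB p 2 K :=
  ⟨χ, fun M hM => (S4483.result M hM).1 χ hr ho, hp⟩

theorem DZB.of_sylow {K : Type v} [Group K] [Finite K] {p q : ℕ} [Fact q.Prime] (Q : Sylow q K)
    (hC : IsPGroup q (Subgroup.centralizer ((Q : Subgroup K) : Set K)))
    (χ : IrrCharacter K) (hq : ¬ q ∣ charDegree (χ : K → ℂ))
    (hp : (Nat.card K).factorization p ≤ (charDegree (χ : K → ℂ)).factorization p) : DZB p q K :=
  ⟨χ, fun _ hM => H633.Unique.mem_of_centralizer hM Q hC χ hq, hp⟩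

theorem DZB.of_equiv {K : Type v} [Group K] {L : Type u} [Group L] {p q : ℕ} (e : K ≃* L)
    (h : DZB p q L) : DZB p q K := by
  obtain ⟨θ, h1, h2⟩ := h
  refine ⟨⟨(θ : L → ℂ) ∘ e.toMonoidHom, isIrr_comp e.toMonoidHom e.surjective θ.2⟩, fun M hM => ?_, ?_⟩
  · have hMp : M.IsPrime := isPrime_of_isPModular hM
    exact mem_principalBlock_comp e.toMonoidHom e.surjective (h1 M hM)
  · have h3 : charDegree ((θ : L → ℂ) ∘ e.toMonoidHom) = charDegree (θ : L → ℂ) := by
      unfold charDegree
      rw [Function.comp_apply, map_one]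
    show _ ≤ (charDegree ((θ : L → ℂ) ∘ e.toMonoidHom)).factorization p
    rw [h3, Nat.card_congr e.toEquiv]
    exact h2

variable {G : Type u} [Group G] [Finite G]

/-- **T3 for principal `q`-blocks**, with a surjection from the centralizer. -/
theorem BD.of_hom {p q : ℕ} [hp : Fact p.Prime] [hq : Fact q.Prime] (hqp : q ≠ p) (D : Subgroup G)
    (hD : IsPGroup p D) (hidx : p ∣ D.index) {x : G} (hxD : x ∈ D)
    (hx : Subgroup.centralizer ({x} : Set G) ≤ Subgroup.centralizer (D : Set G))
    {K : Type v} [Group K] (f : Subgroup.centralizer ({x} : Set G) →* K) (hf : Function.Surjective f)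
    (hker : ∀ y : Subgroup.centralizer ({x} : Set G), f y = 1 ↔ (y : G) ∈ D)
    (hst : ∀ g : G, g ∈ Subgroup.normalizer (D : Set G) → (∃ k : ℕ, orderOf g = p ^ k) →
      g ∈ D ⊔ Subgroup.centralizer (D : Set G))
    (h : DZB p q K) : BD p q G := by
  classical
  obtain ⟨θ, hθ, hdeg⟩ := h
  have hxC : x ∈ Subgroup.centralizer ({x} : Set G) := Subgroup.mem_centralizer_singleton_iff.2 rfl
  have heq : Subgroup.centralizer (D : Set G) = Subgroup.centralizer ({x} : Set G) := by
    refine le_antisymm (Subgroup.centralizer_le ?_) hx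
    rw [Set.singleton_subset_iff]
    exact hxD
  have hDC : D ≤ Subgroup.centralizer ({x} : Set G) := by
    intro d hd
    rw [Subgroup.mem_centralizer_singleton_iff]
    exact (Subgroup.mem_centralizer_iff.1 (hx hxC)) d hd
  let e : Subgroup.centralizer (D : Set G) ≃* Subgroup.centralizer ({x} : Set G) :=
    MulEquiv.subgroupCongr heq
  let φ : Subgroup.centralizer (D : Set G) →* K := f.comp e.toMonoidHom
  have hφ : Function.Surjective φ := hf.comp e.surjective
  have : Finite K := Finite.of_surjective f hf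
  have hcard : Nat.card (Subgroup.centralizer (D : Set G)) = Nat.card K * Nat.card D := by
    rw [Nat.card_congr e.toEquiv]
    have h1 := f.ker.card_eq_card_quotient_mul_card_subgroup
    rw [h1, Nat.card_congr (QuotientGroup.quotientKerEquivOfSurjective f hf).toEquiv]
    congr 1
    have h2 : f.ker = D.subgroupOf (Subgroup.centralizer ({x} : Set G)) := by
      ext y
      rw [MonoidHom.mem_ker, hker, Subgroup.mem_subgroupOf]
    rw [h2]
    exact Nat.card_congr (Subgroup.subgroupOfEquivOfLe hDC).toEquiv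
  have hd2 : charDegree ((θ : K → ℂ) ∘ φ) = charDegree (θ : K → ℂ) := by
    unfold charDegree
    rw [Function.comp_apply, map_one]
  refine BD.of_local hqp D hD hidx hxD hx
    ⟨(θ : K → ℂ) ∘ φ, isIrr_comp φ hφ θ.2⟩ ?_ hst ?_
  · show _ ≤ (charDegree ((θ : K → ℂ) ∘ φ)).factorization p + _
    rw [hd2, hcard, Nat.factorization_mul Nat.card_pos.ne' Nat.card_pos.ne', Finsupp.add_apply]
    have h3 : D ⊓ Subgroup.centralizer (D : Set G) = D := by
      rw [heq]
      exact inf_eq_left.2 hDC
    rw [h3]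
    omega
  · intro M hM
    have hMp : M.IsPrime := isPrime_of_isPModular hM
    exact mem_principalBlock_comp φ hφ (hθ M hM)

/-- A `p`-element normalizing a subgroup of order `p` centralizes it. -/
theorem centralizes_of_order {p : ℕ} [hp : Fact p.Prime] {x : G} (hx : orderOf x = p) {g : G}
    (hg : g ∈ Subgroup.normalizer ((Subgroup.zpowers x : Subgroup G) : Set G))
    (hk : ∃ k : ℕ, orderOf g = p ^ k) : g ∈ Subgroup.centralizer ((Subgroup.zpowers x : Subgroup G) : Set G) := by
  classical
  obtain ⟨k, hk⟩ := hk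
  have h1 : g * x * g⁻¹ ∈ Subgroup.zpowers x :=
    (Subgroup.mem_normalizer_iff.1 hg x).1 (Subgroup.mem_zpowers x)
  rw [mem_zpowers_iff_mem_range_orderOf, hx] at h1
  obtain ⟨j, -, hj⟩ := Finset.mem_image.1 h1
  have hpow : ∀ n : ℕ, g ^ n * x * (g ^ n)⁻¹ = x ^ (j ^ n) := by
    intro n
    induction n with
    | zero => simp
    | succ n ih =>
      have h2 : g ^ (n + 1) * x * (g ^ (n + 1))⁻¹ = g * (g ^ n * x * (g ^ n)⁻¹) * g⁻¹ := by
        rw [pow_succ']; group
      rw [h2, ih]
      have h3 : g * x ^ (j ^ n) * g⁻¹ = (g * x * g⁻¹) ^ (j ^ n) := by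
        rw [conj_pow]
      rw [h3, ← hj, ← pow_mul, pow_succ, mul_comm]
  have h4 := hpow (p ^ k)
  rw [← hk, pow_orderOf_eq_one, one_mul, inv_one, mul_one] at h4
  have h5 : x ^ 1 = x ^ (j ^ orderOf g) := by rw [pow_one]; exact h4
  rw [pow_eq_pow_iff_modEq, hx, hk] at h5
  have h6 : ((1 : ℕ) : ZMod p) = ((j ^ p ^ k : ℕ) : ZMod p) := (ZMod.natCast_eq_natCast_iff _ _ _).2 h5
  push_cast at h6
  rw [ZMod.pow_card_pow] at h6
  have h7 : x ^ j = x := by
    have h8 : x ^ j = x ^ 1 := by
      rw [pow_eq_pow_iff_modEq, hx]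
      apply (ZMod.natCast_eq_natCast_iff _ _ _).1
      push_cast
      exact h6.symm
    rw [h8, pow_one]
  rw [Subgroup.mem_centralizer_iff]
  intro y hy
  obtain ⟨m, rfl⟩ := Subgroup.mem_zpowers_iff.1 hy
  have h9 : g * x * g⁻¹ = x := by rw [← hj, h7]
  have h10 : Commute g x := by
    have h11 : g * x = x * g := by
      calc g * x = g * x * g⁻¹ * g := by group
        _ = x * g := by rw [h9]
    exact h11
  exact (h10.zpow_right m).eq.symm

omit [Finite G] in
theorem centralizer_zpowers_eq (x : G) :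
    Subgroup.centralizer ((Subgroup.zpowers x : Subgroup G) : Set G) =
      Subgroup.centralizer ({x} : Set G) := by
  apply le_antisymm
  · apply Subgroup.centralizer_le
    rw [Set.singleton_subset_iff]
    exact Subgroup.mem_zpowers x
  · intro y hy
    rw [Subgroup.mem_centralizer_singleton_iff] at hy
    rw [Subgroup.mem_centralizer_iff]
    intro z hz
    obtain ⟨m, rfl⟩ := Subgroup.mem_zpowers_iff.1 hz
    exact ((show Commute y x from hy).zpow_right m).eq.symm

/-- **T3 for principal `q`-blocks and an element of order `p`.** -/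
theorem BD.of_elem {p q : ℕ} [hp : Fact p.Prime] [hq : Fact q.Prime] (hqp : q ≠ p) {x : G}
    (hx : orderOf x = p) (hG : p ^ 2 ∣ Nat.card G) {K : Type v} [Group K]
    (f : Subgroup.centralizer ({x} : Set G) →* K) (hf : Function.Surjective f)
    (hker : ∀ y : Subgroup.centralizer ({x} : Set G), f y = 1 ↔ (y : G) ∈ Subgroup.zpowers x)
    (h : DZB p q K) : BD p q G := by
  refine BD.of_hom hqp (Subgroup.zpowers x) ?_ ?_ (Subgroup.mem_zpowers x)
    (centralizer_zpowers_eq x).ge f hf hker ?_ h
  · apply IsPGroup.of_card (n := 1)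
    rw [Nat.card_zpowers, hx, pow_one]
  · have h1 := (Subgroup.zpowers x).card_mul_index
    rw [Nat.card_zpowers, hx] at h1
    rw [← h1, sq] at hG
    exact Nat.dvd_of_mul_dvd_mul_left hp.out.pos hG
  · intro g hg hk
    exact Subgroup.mem_sup_right (centralizes_of_order hx hg hk)

/-- The kernel may be described by its order. -/
theorem BD.of_elem' {p q : ℕ} [hp : Fact p.Prime] [hq : Fact q.Prime] (hqp : q ≠ p) {x : G}
    (hx : orderOf x = p) (hG : p ^ 2 ∣ Nat.card G) {K : Type v} [Group K]
    (f : Subgroup.centralizer ({x} : Set G) →* K) (hf : Function.Surjective f)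
    (hfx : f ⟨x, Subgroup.mem_centralizer_singleton_iff.2 rfl⟩ = 1)
    (hcard : Nat.card (Subgroup.centralizer ({x} : Set G)) = p * Nat.card K)
    (h : DZB p q K) : BD p q G := by
  classical
  refine BD.of_elem hqp hx hG f hf ?_ h
  set z : Subgroup.centralizer ({x} : Set G) := ⟨x, Subgroup.mem_centralizer_singleton_iff.2 rfl⟩ with hz
  have hzo : orderOf z = p := by rw [hz, Subgroup.orderOf_mk, hx]
  have : Finite K := Finite.of_surjective f hf
  have h1 : Subgroup.zpowers z ≤ f.ker := by
    rw [Subgroup.zpowers_le]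
    exact hfx
  have h2 : Nat.card f.ker = p := by
    have h3 := f.ker.card_eq_card_quotient_mul_card_subgroup
    rw [Nat.card_congr (QuotientGroup.quotientKerEquivOfSurjective f hf).toEquiv, hcard, mul_comm] at h3
    exact (Nat.eq_of_mul_eq_mul_left Nat.card_pos h3).symm
  have h3 : Subgroup.zpowers z = f.ker := by
    apply Subgroup.eq_of_le_of_card_ge h1
    rw [h2, Nat.card_zpowers, hzo]
  intro y
  rw [← MonoidHom.mem_ker, ← h3]
  constructor
  · rintro ⟨m, hm⟩
    exact ⟨m, by rw [← hm]; rfl⟩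
  · rintro ⟨m, hm⟩
    exact ⟨m, Subtype.ext hm⟩

end Cfsg.Agent.H133.PB
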