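import Cfsg.Agent.H133.PB.Even
import Cfsg.Agent.H672.SC
import Cfsg.Agent.H692.RealOver
import Cfsg.Agent.S0241

/-!
# Structure constants and degrees in the principal `q`-block (helper133, after helper672)

If `g` is such that the irreducible characters outside the principal `q`-block vanish at `g` (for instance `g` of
prime order `q`, `C_G(g) = ⟨g⟩`), the structure constant criterion of `H672.SC` produces a character in the principal
`q`-block.
-/

set_option autoImplicit false

open Cfsg

namespace Cfsg.Agent.H133.PB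

open Cfsg.Agent.Characters.Core Cfsg.Agent.Blocks.Basic Cfsg.Agent.Blocks.Local Cfsg.Agent.H672.SC
open scoped ComplexConjugate

universe u

variable {G : Type u} [Group G]

theorem exists_coprime_mul_block [Finite G] {p : ℕ} [hp : Fact p.Prime] {B : Set (IrrCharacter G)}
    (h : ∀ χ ∈ B, ¬ p ∣ charDegree (χ : G → ℂ)) (a b g : G)
    (hvan : ∀ χ : IrrCharacter G, χ ∉ B → (χ : G → ℂ) g = 0) :
    ∃ m : ℕ, ¬ p ∣ m ∧ Nat.card G ∣ m * (npairs a b g *
      (Nat.card (Subgroup.centralizer ({a} : Set G)) *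
        Nat.card (Subgroup.centralizer ({b} : Set G)))) := by
  classical
  have : Finite (IrrCharacter G) := finite_irr
  have : Fintype (IrrCharacter G) := Fintype.ofFinite _
  have hdeg : ∀ χ : IrrCharacter G, (χ : G → ℂ) 1 = (charDegree (χ : G → ℂ) : ℂ) := fun χ =>
    Cfsg.Agent.Blocks.Basic.irr_one_eq_charDegree χ.2
  have hpos : ∀ χ : IrrCharacter G, charDegree (χ : G → ℂ) ≠ 0 := fun χ =>
    (Cfsg.Agent.Blocks.Basic.charDegree_pos χ.2).ne'
  set s : Finset (IrrCharacter G) := (Set.toFinite B).toFinset with hs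
  have hmem : ∀ χ : IrrCharacter G, χ ∈ s ↔ χ ∈ B := fun χ => by
    rw [hs, Set.Finite.mem_toFinset]
  refine ⟨∏ χ ∈ s, charDegree (χ : G → ℂ), ?_, ?_⟩
  · intro hd
    obtain ⟨χ, h1, hχ⟩ := (Prime.dvd_finsetProd_iff hp.out.prime _).1 hd
    exact h χ ((hmem χ).1 h1) hχ
  · set m := ∏ χ ∈ s, charDegree (χ : G → ℂ) with hm
    have hG : (Nat.card G : ℂ) ≠ 0 := by exact_mod_cast Nat.card_pos.ne'
    apply Cfsg.Agent.Characters.DegreeBounds.nat_dvd_of_isIntegral_div Nat.card_pos.ne'
    have h1 := Cfsg.Agent.Characters.ClassMul.card_class_mul a b g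
    have ha : (Nat.card (Subgroup.centralizer ({a} : Set G)) : ℂ) *
        ((Subgroup.centralizer ({a} : Set G)).index : ℂ) = (Nat.card G : ℂ) := by
      exact_mod_cast Subgroup.card_mul_index _
    have hb : (Nat.card (Subgroup.centralizer ({b} : Set G)) : ℂ) *
        ((Subgroup.centralizer ({b} : Set G)).index : ℂ) = (Nat.card G : ℂ) := by
      exact_mod_cast Subgroup.card_mul_index _
    set S : ℂ := ∑ χ : IrrCharacter G,
        (χ : G → ℂ) a * (χ : G → ℂ) b * conj ((χ : G → ℂ) g) / (χ : G → ℂ) 1 with hS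
    have hmS : IsIntegral ℤ ((m : ℂ) * S) := by
      rw [hS, Finset.mul_sum]
      apply IsIntegral.sum
      intro χ _
      by_cases hχB : χ ∈ B
      swap
      · rw [hvan χ hχB]
        simp only [map_zero, mul_zero, zero_div]
        exact isIntegral_zero
      have hsplit : (m : ℂ) = (charDegree (χ : G → ℂ) : ℂ) *
          ∏ ψ ∈ s.erase χ, (charDegree (ψ : G → ℂ) : ℂ) := by
        rw [hm]
        push_cast
        rw [Finset.mul_prod_erase s (fun ψ : IrrCharacter G => (charDegree (ψ : G → ℂ) : ℂ))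
          ((hmem χ).2 hχB)]
      have hne : (charDegree (χ : G → ℂ) : ℂ) ≠ 0 := by exact_mod_cast hpos χ
      have : (m : ℂ) * ((χ : G → ℂ) a * (χ : G → ℂ) b * conj ((χ : G → ℂ) g) / (χ : G → ℂ) 1) =
          (∏ ψ ∈ s.erase χ, (charDegree (ψ : G → ℂ) : ℂ)) *
          ((χ : G → ℂ) a * (χ : G → ℂ) b * conj ((χ : G → ℂ) g)) := by
        rw [hdeg χ, hsplit]
        field_simp
      rw [this]
      have hχ : IsCharacter G (χ : G → ℂ) := by
        obtain ⟨n, ρ, -, h3⟩ := χ.2
        exact ⟨n, ρ, h3⟩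
      refine IsIntegral.mul ?_ (((Characters.GaloisBasic.isIntegral_apply hχ a).mul
        (Characters.GaloisBasic.isIntegral_apply hχ b)).mul ?_)
      · apply IsIntegral.prod
        intro ψ _
        have h3 : IsIntegral ℤ (algebraMap ℤ ℂ (charDegree (ψ : G → ℂ) : ℤ)) :=
          isIntegral_algebraMap
        simpa using h3
      · exact (Characters.GaloisBasic.isIntegral_apply hχ g).map
          ((Complex.conjAe : ℂ →ₐ[ℝ] ℂ).restrictScalars ℤ)
    have key : ((m * (npairs a b g * (Nat.card (Subgroup.centralizer ({a} : Set G)) *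
        Nat.card (Subgroup.centralizer ({b} : Set G)))) : ℕ) : ℂ) / (Nat.card G : ℂ) =
        (m : ℂ) * S := by
      have h2 : (npairs a b g : ℂ) = ((Subgroup.centralizer ({a} : Set G)).index : ℂ) *
        ((Subgroup.centralizer ({b} : Set G)).index : ℂ) / (Nat.card G : ℂ) * S := h1
      push_cast
      rw [h2]
      rw [← ha]
      rw [← ha] at hG
      have hb' := hb
      rw [← ha] at hb'
      have hca : (Nat.card (Subgroup.centralizer ({a} : Set G)) : ℂ) ≠ 0 := left_ne_zero_of_mul hG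
      have hia : ((Subgroup.centralizer ({a} : Set G)).index : ℂ) ≠ 0 := right_ne_zero_of_mul hG
      field_simp
      linear_combination (m : ℂ) * S * hb'
    rw [key]
    exact hmS

/-- **Structure constant criterion for the principal `q`-block.** -/
theorem BD.of_npairs [Finite G] {p q : ℕ} [hp : Fact p.Prime] (a b g : G) {k : ℕ}
    (hvan : ∀ M : Ideal AlgInt, IsPModular q M → ∀ χ : IrrCharacter G, χ ∉ principalBlock M G →
      (χ : G → ℂ) g = 0)
    (hk : p ^ k ∣ Nat.card G)
    (h : ¬ p ^ k ∣ npairs a b g * (Nat.card (Subgroup.centralizer ({a} : Set G)) *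
        Nat.card (Subgroup.centralizer ({b} : Set G)))) : BD p q G := by
  intro M hM
  by_contra hcon
  push Not at hcon
  obtain ⟨m, hm, hd⟩ := exists_coprime_mul_block hcon a b g (hvan M hM)
  have h1 : (p ^ k).Coprime m := Nat.Coprime.pow_left _ ((Nat.Prime.coprime_iff_not_dvd hp.out).2 hm)
  exact h (h1.dvd_of_dvd_mul_left (hk.trans hd))

/-- The irreducible characters outside the principal `q`-block vanish at a `q`-element `g ≠ 1`, when `|G|_q = q`
and `C_G(g)` is a `q`-group. -/
theorem eq_zero_of_notMem [Finite G] {q : ℕ} [hq : Fact q.Prime] {M : Ideal AlgInt}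
    (hM : IsPModular q M) (hG : ¬ q ^ 2 ∣ Nat.card G) {g : G} (hg : orderOf g = q)
    (hC : IsPGroup q (Subgroup.centralizer ({g} : Set G))) {χ : IrrCharacter G}
    (hχ : χ ∉ principalBlock M G) : (χ : G → ℂ) g = 0 := by
  obtain ⟨Q, hQ⟩ := isPGroup_centralizer_sylow hC ⟨1, by rw [hg, pow_one]⟩
  have h1 : q ∣ charDegree (χ : G → ℂ) := by
    by_contra h
    exact hχ (H633.Unique.mem_of_centralizer hM Q hQ χ h)
  refine H692.RealOver.defect_zero_vanish χ.2 q hq.out ?_ (by rw [hg])
  have h2 : (Nat.card G).factorization q ≤ 1 := by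
    by_contra h
    push Not at h
    exact hG ((pow_dvd_pow q h).trans (Nat.ordProj_dvd _ _))
  refine dvd_trans (pow_dvd_pow q h2) ?_
  rwa [pow_one]

/-- **Involution criterion for the principal `q`-block**: `g` has prime order `q`, is its own centralizer's only
nontrivial cyclic part (`|C_G(g)| = q`), is inverted by the involution `t`, and `|G|_p` does not divide `|C_G(t)|²`. -/
theorem BD.of_inverted [Finite G] {p q : ℕ} [hp : Fact p.Prime] [hq : Fact q.Prime] (hq2 : q ≠ 2)
    (hqp : q ≠ p) (hG : ¬ q ^ 2 ∣ Nat.card G) {t g : G} (ht : t * t = 1)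
    (hg : t * g * t⁻¹ = g⁻¹) (hgq : orderOf g = q)
    (hC : Nat.card (Subgroup.centralizer ({g} : Set G)) = q) {k : ℕ}
    (hk : p ^ k ∣ Nat.card G)
    (h : ¬ p ^ k ∣ Nat.card (Subgroup.centralizer ({t} : Set G)) ^ 2) : BD p q G := by
  apply BD.of_npairs t t g (k := k) _ hk
  · intro hd
    apply h
    have hodd : Odd (Nat.card (Subgroup.centralizer ({g} : Set G))) := by
      rw [hC]; exact hq.out.odd_of_ne_two hq2
    have h1 : ¬ p ∣ npairs t t g := fun h2 => by
      have h3 := h2.trans (npairs_dvd ht hg hodd)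
      rw [hC] at h3
      exact hqp ((Nat.prime_dvd_prime_iff_eq hp.out hq.out).1 h3).symm
    have h2 : (p ^ k).Coprime (npairs t t g) :=
      Nat.Coprime.pow_left _ ((Nat.Prime.coprime_iff_not_dvd hp.out).2 h1)
    rw [sq]
    exact h2.dvd_of_dvd_mul_left hd
  · intro M hM χ hχ
    exact eq_zero_of_notMem hM hG hgq (IsPGroup.of_card (n := 1) (by rw [hC, pow_one])) hχ

/-- **Involution criterion for rows**: `g` real of prime order `q = |C_G(g)|`, `q² ∤ |G|`, and for every involution `t`
inverting `g`, `|G|_p` does not divide `|C_G(t)|²`. -/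
theorem Row.of_inverted [Finite G] {p q : ℕ} [hp : Fact p.Prime] [hq : Fact q.Prime] (hq2 : q ≠ 2)
    (hqp : q ≠ p) (hG : ¬ q ^ 2 ∣ Nat.card G) {g : G} (hgq : orderOf g = q) (hr : IsConj g g⁻¹)
    (hC : Nat.card (Subgroup.centralizer ({g} : Set G)) = q)
    (h : ∀ t : G, orderOf t = 2 → t * g * t⁻¹ = g⁻¹ → ∃ k : ℕ, p ^ k ∣ Nat.card G ∧
      ¬ p ^ k ∣ Nat.card (Subgroup.centralizer ({t} : Set G)) ^ 2) : Row p G := by
  have hg1 : g ≠ 1 := by
    rintro rfl
    rw [orderOf_one] at hgq
    exact hq.out.one_lt.ne hgq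
  obtain ⟨t, ht, htg⟩ := S0241.result g hg1 hr (by rw [hC]; exact hq.out.odd_of_ne_two hq2)
  obtain ⟨k, hk, hk'⟩ := h t ht htg
  have ht2 : t * t = 1 := by rw [← sq, ← ht, pow_orderOf_eq_one]
  exact Row.intro hq.out hqp (by rw [← hgq]; exact orderOf_dvd_natCard g)
    (BD.of_inverted hq2 hqp hG ht2 htg hgq hC hk hk')

end Cfsg.Agent.H133.PB
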