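import Cfsg.Agent.H133.PB.Basic
import Cfsg.Agent.H614.AltBlk
import Cfsg.Agent.H614.Nakayama
import Cfsg.Agent.H614.Degree
import Cfsg.Agent.H611.CoverPrincipal

/-!
# The rows of the odd primes for the alternating groups (helper133)

* `BD.alt_of_beta` : an irreducible character of the symmetric group with the same residues as the trivial one;
* `row_alt_odd` : `Row p (alternatingGroup (Fin n))` for `p` odd, `p ≤ n`, `5 ≤ n` (with `q = 2`).
-/

set_option autoImplicit false

namespace Cfsg.Agent.H133.PB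

open Cfsg Cfsg.Agent Cfsg.Agent.H614 Finset

universe u

/-- The tuple of the trivial character. -/
def tr (k n : ℕ) : Fin (k + 1) → ℕ := fun j => if j = Fin.last k then n + k else j

theorem tr_last (k n : ℕ) : tr k n (Fin.last k) = n + k := by simp [tr]

theorem tr_castSucc (k n : ℕ) (j : Fin k) : tr k n j.castSucc = j := by
  have : j.castSucc ≠ Fin.last k := (Fin.castSucc_lt_last j).ne
  simp [tr, this]

theorem tr_strictMono (k n : ℕ) : StrictMono (tr k n) := by
  intro a b hab
  have ha : a ≠ Fin.last k := fun h => by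
    rw [h] at hab
    exact absurd hab (not_lt.2 (Fin.le_last b))
  unfold tr
  rw [if_neg ha]
  split_ifs with hb
  · have := a.2
    have h1 : (a : ℕ) < k := by
      have h2 : a < Fin.last k := lt_of_le_of_ne (Fin.le_last a) ha
      exact h2
    omega
  · exact hab

theorem tr_sum (k n : ℕ) : ∑ i, tr k n i = n + ∑ i : Fin (k + 1), (i : ℕ) := by
  rw [Fin.sum_univ_castSucc, Fin.sum_univ_castSucc, tr_last]
  simp only [tr_castSucc, Fin.val_castSucc, Fin.val_last]
  ring

theorem tr_zero (k : ℕ) : tr k 0 = fun j : Fin (k + 1) => (j : ℕ) := by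
  funext j
  unfold tr
  split_ifs with h
  · rw [h]; simp
  · rfl

theorem dn_tr_last (k n : ℕ) {r : ℕ} (hr : r ≤ n) : dn (tr k n) (Fin.last k) r = tr k (n - r) := by
  funext j
  by_cases hj : j = Fin.last k
  · rw [hj, dn_self, tr_last, tr_last]
    omega
  · rw [dn_ne _ _ hj]
    unfold tr
    rw [if_neg hj, if_neg hj]

theorem vac_id (m : ℕ) : vac (fun j : Fin m => (j : ℕ)) = 1 := by
  unfold vac
  rw [Finset.sum_eq_single 1]
  · rw [if_pos (by funext i; simp)]
    simp [sg]
  · intro σ _ hσ
    rw [if_neg]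
    intro h
    apply hσ
    ext i
    have := congrFun h i
    simp only [Equiv.Perm.coe_one, id_eq]
    exact this.symm
  · intro h
    exact absurd (Finset.mem_univ _) h

theorem FM_tr (k : ℕ) (s : Multiset ℕ) (hs : ∀ i ∈ s, 0 < i) : FM s (tr k s.sum) = 1 := by
  induction s using Multiset.induction with
  | empty =>
    rw [Multiset.sum_zero, tr_zero, FM_zero, vac_id]
  | cons r s ih =>
    rw [FM_cons, Finset.sum_eq_single (Fin.last k)]
    · rw [Multiset.sum_cons, if_pos (by rw [tr_last]; omega), dn_tr_last _ _ (by omega)]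
      rw [Nat.add_sub_cancel_left]
      exact ih fun i hi => hs i (Multiset.mem_cons_of_mem hi)
    · intro j _ hj
      split_ifs with hle
      · apply FM_eq_zero_of_not_injective
        intro hinj
        have hr : 0 < r := hs r (Multiset.mem_cons_self _ _)
        have h1 : tr k (r ::ₘ s).sum j = j := by
          unfold tr; rw [if_neg hj]
        rw [h1] at hle
        have hlt : (j : ℕ) - r < k + 1 := by have := j.2; omega
        have hne : (⟨(j : ℕ) - r, hlt⟩ : Fin (k + 1)) ≠ j := by
          intro h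
          have := congrArg Fin.val h
          simp only at this
          omega
        have hl : (⟨(j : ℕ) - r, hlt⟩ : Fin (k + 1)) ≠ Fin.last k := by
          intro h
          have := congrArg Fin.val h
          simp only [Fin.val_last] at this
          have := j.2
          omega
        apply hne
        apply hinj
        rw [dn_self, dn_ne _ _ hne, h1]
        unfold tr
        rw [if_neg hl]
      · rfl
    · intro h
      exact absurd (Finset.mem_univ _) h

section

variable {α : Type u} [Fintype α] [DecidableEq α]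

theorem ch_tr (k : ℕ) : ch α (tr k (Fintype.card α)) = fun _ => 1 := by
  funext g
  rw [ch_apply, ← ty_sum g, FM_tr k (ty g) (ty_pos g), Int.cast_one]

theorem sameCol_of_mod {q m : ℕ} {β γ : Fin m → ℕ} (h : ∀ j, β j % q = γ j % q) : SameCol q β γ := by
  intro i
  unfold res
  simp only [h]

/-- A character of the symmetric group with the residues of the trivial character is in the principal block. -/
theorem ch_mem_principalBlock {q k : ℕ} [Fact q.Prime] {M : Ideal AlgInt} (hM : IsPModular q M)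
    {β : Fin (k + 1) → ℕ} (hβ : StrictMono β) (hs : ∑ i, β i = Fintype.card α + ∑ i : Fin (k + 1), (i : ℕ))
    (hc : SameCol q (tr k (Fintype.card α)) β) :
    (⟨ch α β, isIrr_ch hβ hs⟩ : IrrCharacter (Equiv.Perm α)) ∈ principalBlock M (Equiv.Perm α) := by
  have h1 := sameBlock_of_sameCol (α := α) hM (tr_strictMono k _) hβ (tr_sum k _) hs hc
  rw [ch_tr] at h1
  exact h1

theorem BD.alt_of_beta [Nontrivial α] {p q k : ℕ} [hp : Fact p.Prime] [Fact q.Prime] (hp2 : p ≠ 2)
    {β : Fin (k + 1) → ℕ} (hβ : StrictMono β) (hs : ∑ i, β i = Fintype.card α + ∑ i : Fin (k + 1), (i : ℕ))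
    (hc : SameCol q (tr k (Fintype.card α)) β)
    (hd : (p : ℤ) ∣ FM (Multiset.replicate (Fintype.card α) 1) β) : BD p q (alternatingGroup α) := by
  intro M hM
  have h1 := ch_mem_principalBlock (α := α) hM hβ hs hc
  obtain ⟨ψ, hψ⟩ := exists_constituent (alternatingGroup α) (isIrr_ch (α := α) hβ hs)
  refine ⟨ψ, H611.CoverPrincipal.mem_principalBlock_of_over q hM (alternatingGroup α) _ ψ hψ h1, ?_⟩
  have h2 : p ∣ charDegree (ch α β) := by
    rw [charDegree_ch hβ hs]
    exact Int.natCast_dvd.1 hd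
  rcases degree_two (alternatingGroup α) alternatingGroup.index_eq_two (isIrr_ch (α := α) hβ hs) ψ.2 hψ with h3 | ⟨h3, -⟩
  · rwa [← h3]
  · rw [h3] at h2
    refine (hp.out.dvd_mul.1 h2).resolve_left fun h4 => hp2 ?_
    exact (Nat.prime_dvd_prime_iff_eq hp.out Nat.prime_two).1 h4

end

/-! ### `p ∣ n` : the partition `(n - 2, 2)` -/

theorem BD.alt_dvd {n p : ℕ} [hp : Fact p.Prime] (hp2 : p ≠ 2) (hn : 5 ≤ n) (hpn : p ∣ n) :
    BD p 2 (alternatingGroup (Fin n)) := by
  have : Nontrivial (Fin n) := Fin.nontrivial_iff_two_le.2 (by omega)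
  have : Fact (Nat.Prime 2) := ⟨Nat.prime_two⟩
  set β : Fin (1 + 1) → ℕ := ![2, n - 1] with hβdef
  have hβ : StrictMono β := by
    intro a b hab
    fin_cases a <;> fin_cases b <;> simp [hβdef] at hab ⊢
    omega
  have hs : ∑ i, β i = Fintype.card (Fin n) + ∑ i : Fin (1 + 1), (i : ℕ) := by
    rw [Fintype.card_fin, Fin.sum_univ_two, Fin.sum_univ_two]
    simp [hβdef]
    omega
  refine BD.alt_of_beta hp2 (k := 1) hβ hs ?_ ?_
  · apply sameCol_of_mod
    intro j
    rw [Fintype.card_fin]
    fin_cases j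
    · simp [tr, hβdef]
    · simp [tr, hβdef]
      omega
  · rw [Fintype.card_fin]
    have h1 := FM_ones_formula n β (by simpa using hs)
    rw [Fin.prod_univ_two, Fin.prod_univ_two] at h1
    have e0 : Finset.Ioi (0 : Fin (1 + 1)) = {1} := by decide
    have e1 : Finset.Ioi (1 : Fin (1 + 1)) = ∅ := by decide
    rw [e0, e1, Finset.prod_singleton, Finset.prod_empty] at h1
    have b0 : β 0 = 2 := rfl
    have b1 : β 1 = n - 1 := rfl
    rw [b0, b1] at h1
    obtain ⟨m, rfl⟩ : ∃ m, n = m + 1 := ⟨n - 1, by omega⟩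
    rw [Nat.add_sub_cancel, Nat.factorial_succ m] at h1
    have hf : ((m.factorial : ℕ) : ℤ) ≠ 0 := by exact_mod_cast m.factorial_ne_zero
    have h2 : FM (Multiset.replicate (m + 1) 1) β * 2 = ((m + 1 : ℕ) : ℤ) * ((m : ℤ) - 2) := by
      apply mul_left_cancel₀ hf
      push_cast at h1 ⊢
      simp only [Nat.factorial_two, Nat.cast_ofNat] at h1
      linear_combination h1
    have h3 : (p : ℤ) ∣ FM (Multiset.replicate (m + 1) 1) β * 2 := by
      rw [h2]
      exact Dvd.dvd.mul_right (Int.natCast_dvd_natCast.2 hpn) _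
    refine (Int.Prime.dvd_mul' hp.out h3).resolve_right fun h4 => hp2 ?_
    have h5 : p ∣ 2 := by exact_mod_cast h4
    exact (Nat.prime_dvd_prime_iff_eq hp.out Nat.prime_two).1 h5

/-! ### `p ∤ n` : the hook with `p - 1` rows below the first -/

/-- The tuple of a hook. -/
def hk (k n : ℕ) : Fin (k + 1) → ℕ := fun j => if j = Fin.last k then n else j + 1

theorem hk_last (k n : ℕ) : hk k n (Fin.last k) = n := by simp [hk]

theorem hk_castSucc (k n : ℕ) (j : Fin k) : hk k n j.castSucc = j + 1 := by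
  have : j.castSucc ≠ Fin.last k := (Fin.castSucc_lt_last j).ne
  simp [hk, this]

theorem hk_strictMono {k n : ℕ} (hkn : k < n) : StrictMono (hk k n) := by
  intro a b hab
  have ha : a ≠ Fin.last k := fun h => by
    rw [h] at hab
    exact absurd hab (not_lt.2 (Fin.le_last b))
  have h1 : (a : ℕ) < k := by
    have h2 : a < Fin.last k := lt_of_le_of_ne (Fin.le_last a) ha
    exact h2
  unfold hk
  rw [if_neg ha]
  split_ifs with hb
  · omega
  · exact Nat.succ_lt_succ hab

theorem hk_sum (k n : ℕ) : ∑ i, hk k n i = n + ∑ i : Fin (k + 1), (i : ℕ) := by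
  rw [Fin.sum_univ_castSucc, Fin.sum_univ_castSucc, hk_last]
  simp only [hk_castSucc, Fin.val_castSucc, Fin.val_last]
  rw [Finset.sum_add_distrib]
  simp only [Finset.sum_const, Finset.card_univ, Fintype.card_fin, smul_eq_mul, mul_one]
  ring

theorem hk_sameCol {k : ℕ} (hk2 : 2 ∣ k) (n : ℕ) : SameCol 2 (tr k n) (hk k n) := by
  intro i
  unfold res
  rw [Finset.card_filter, Finset.card_filter, Fin.sum_univ_castSucc, Fin.sum_univ_castSucc, hk_last, tr_last]
  simp only [hk_castSucc, tr_castSucc]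
  congr 1
  · rw [Fin.sum_univ_eq_sum_range (fun j => if j % 2 = i then 1 else 0) k,
      Fin.sum_univ_eq_sum_range (fun j => if (j + 1) % 2 = i then 1 else 0) k]
    have h1 := Finset.sum_range_succ' (fun j => if j % 2 = i then 1 else 0) k
    have h2 := Finset.sum_range_succ (fun j => if j % 2 = i then 1 else 0) k
    have h3 : k % 2 = 0 % 2 := by omega
    rw [h2, h3] at h1
    exact Nat.add_right_cancel h1
  · have : (n + k) % 2 = n % 2 := by omega
    rw [this]

theorem BD.alt_not_dvd {n p : ℕ} [hp : Fact p.Prime] (hp2 : p ≠ 2) (hn : 5 ≤ n) (hpn : p ≤ n) (hd : ¬ p ∣ n) :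
    BD p 2 (alternatingGroup (Fin n)) := by
  have : Nontrivial (Fin n) := Fin.nontrivial_iff_two_le.2 (by omega)
  have : Fact (Nat.Prime 2) := ⟨Nat.prime_two⟩
  have hp3 : 3 ≤ p := by have := hp.out.two_le; omega
  have hodd : 2 ∣ p - 1 := by
    have := hp.out.odd_of_ne_two hp2
    obtain ⟨t, ht⟩ := this
    exact ⟨t, by omega⟩
  obtain ⟨k, hk1⟩ : ∃ k, p = k + 1 := ⟨p - 1, by omega⟩
  have hk2 : 2 ∣ k := by rwa [hk1, Nat.add_sub_cancel] at hodd
  have hkn : k < n := by omega
  have hs : ∑ i, hk k n i = Fintype.card (Fin n) + ∑ i : Fin (k + 1), (i : ℕ) := by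
    rw [Fintype.card_fin]; exact hk_sum k n
  refine BD.alt_of_beta hp2 (hk_strictMono hkn) hs ?_ ?_
  · rw [Fintype.card_fin]
    exact hk_sameCol hk2 n
  · rw [Fintype.card_fin]
    have h1 := FM_ones_formula n (hk k n) (hk_sum k n)
    -- the pair with difference divisible by `p`
    have hr : n % p ≠ 0 := fun h => hd (Nat.dvd_of_mod_eq_zero h)
    have hrp : n % p < p := Nat.mod_lt _ hp.out.pos
    have hi : n % p - 1 < k := by omega
    have h2 : (p : ℤ) ∣ ∏ i : Fin (k + 1), ∏ j ∈ Finset.Ioi i, ((hk k n j : ℤ) - hk k n i) := by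
      refine Dvd.dvd.trans ?_ (Finset.dvd_prod_of_mem _ (Finset.mem_univ (Fin.castSucc ⟨n % p - 1, hi⟩)))
      refine Dvd.dvd.trans ?_ (Finset.dvd_prod_of_mem _ (Finset.mem_Ioi.2 (Fin.castSucc_lt_last ⟨n % p - 1, hi⟩)))
      rw [hk_last, hk_castSucc]
      have h3 : ((n % p - 1 : ℕ) + 1 : ℕ) = n % p := by omega
      rw [h3]
      have h4 : ((n % p : ℕ) : ℤ) ≤ n := by exact_mod_cast Nat.mod_le n p
      have h5 := Nat.dvd_sub_mod (n := p) n
      rw [← Nat.cast_sub (Nat.mod_le n p)]
      exact Int.natCast_dvd_natCast.2 h5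
    rw [Fin.prod_univ_castSucc, hk_last] at h1
    simp only [hk_castSucc] at h1
    have hf : ((n.factorial : ℕ) : ℤ) ≠ 0 := by exact_mod_cast n.factorial_ne_zero
    have h3 : FM (Multiset.replicate n 1) (hk k n) * ∏ j : Fin k, (((j : ℕ) + 1).factorial : ℤ) =
        ∏ i : Fin (k + 1), ∏ j ∈ Finset.Ioi i, ((hk k n j : ℤ) - hk k n i) := by
      apply mul_left_cancel₀ hf
      rw [← h1]
      ring
    rw [← h3] at h2
    refine (Int.Prime.dvd_mul' hp.out h2).resolve_right fun h4 => ?_
    have h5 : Prime (p : ℤ) := Nat.prime_iff_prime_int.1 hp.out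
    obtain ⟨j, -, hj⟩ := (Prime.dvd_finset_prod_iff h5 _).1 h4
    have h6 : p ∣ ((j : ℕ) + 1).factorial := by exact_mod_cast hj
    have h7 := (hp.out.dvd_factorial).1 h6
    have := j.2
    omega

/-- **`Row p` for the alternating groups**, `p` odd. -/
theorem row_alt_odd {n p : ℕ} (hp : p.Prime) (hp2 : p ≠ 2) (hn : 5 ≤ n) (hpn : p ≤ n) :
    Row p (alternatingGroup (Fin n)) := by
  have := Fact.mk hp
  have : Nontrivial (Fin n) := Fin.nontrivial_iff_two_le.2 (by omega)
  refine ⟨2, Nat.prime_two, fun h => hp2 h.symm, ?_, ?_⟩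
  · have h1 : 2 * Nat.card (alternatingGroup (Fin n)) = n.factorial := by
      rw [Nat.card_eq_fintype_card, two_mul_card_alternatingGroup, Fintype.card_perm, Fintype.card_fin]
    have h2 : Nat.factorial 4 ∣ n.factorial := Nat.factorial_dvd_factorial (by omega)
    rw [← h1] at h2
    have h3 : Nat.factorial 4 = 24 := rfl
    rw [h3] at h2
    omega
  · by_cases hd : p ∣ n
    · exact BD.alt_dvd hp2 hn hd
    · exact BD.alt_not_dvd hp2 hn hpn hd

end Cfsg.Agent.H133.PB
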