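import Cfsg.Agent.H133.PB.Even
import Mathlib.GroupTheory.SpecificGroups.Alternating.Centralizer
import Mathlib.NumberTheory.Bertrand

/-!
# The row of the prime `2` for the alternating groups (helper133)

* `row_alt_two` : `Row 2 (alternatingGroup (Fin n))` for `5 ≤ n`.
-/

set_option autoImplicit false

namespace Cfsg.Agent.H133.PB

open Cfsg Cfsg.Agent Subgroup Equiv.Perm

universe u

/-- A central Sylow subgroup of prime order has a normal complement. -/
theorem index_pPrimeCore_of_central {C : Type u} [Group C] [Finite C] {q : ℕ} [hq : Fact q.Prime] (z : C)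
    (hz : orderOf z = q) (hc : ∀ x : C, x * z = z * x) (hcard : ¬ q ^ 2 ∣ Nat.card C) :
    ∃ k : ℕ, (pPrimeCore q C).index = q ^ k := by
  have h1 : IsPGroup q (zpowers z) := IsPGroup.of_card (n := 1) (by rw [Nat.card_zpowers, hz, pow_one])
  obtain ⟨P, hP⟩ := h1.exists_le_sylow
  obtain ⟨j, hj⟩ := P.isPGroup'.exists_card_eq
  have hj' : Nat.card (P : Subgroup C) = q ^ j := hj
  have hj1 : j ≤ 1 := by
    by_contra h
    apply hcard
    exact (pow_dvd_pow q (by omega)).trans (hj' ▸ card_subgroup_dvd_card (P : Subgroup C))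
  have hle : Nat.card (P : Subgroup C) ≤ Nat.card (zpowers z) := by
    rw [hj', Nat.card_zpowers, hz]
    calc q ^ j ≤ q ^ 1 := Nat.pow_le_pow_right hq.out.pos hj1
      _ = q := pow_one q
  have hPz : zpowers z = (P : Subgroup C) := Subgroup.eq_of_le_of_card_ge hP hle
  have hN : normalizer ((P : Subgroup C) : Set C) ≤ centralizer ((P : Subgroup C) : Set C) := by
    intro x _
    rw [mem_centralizer_iff]
    intro y hy
    rw [← hPz] at hy
    obtain ⟨k, rfl⟩ := mem_zpowers_iff.1 hy
    have h2 : Commute x z := hc x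
    exact (h2.zpow_right k).symm
  have hcomp := MonoidHom.ker_transferSylow_isComplement' P hN
  have hidx : (MonoidHom.transferSylow P hN).ker.index = q ^ j := by
    rw [hcomp.symm.index_eq_card]; exact hj'
  have hcop := MonoidHom.not_dvd_card_ker_transferSylow P hN
  have hle2 : (MonoidHom.transferSylow P hN).ker ≤ pPrimeCore q C :=
    le_sSup ⟨inferInstance, ((Nat.Prime.coprime_iff_not_dvd hq.out).2 hcop).symm⟩
  have h3 := Subgroup.index_dvd_of_le hle2
  rw [hidx] at h3
  obtain ⟨k, -, hk⟩ := (Nat.dvd_prime_pow hq.out).1 h3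
  exact ⟨k, hk⟩

variable {α : Type u} [Fintype α] [DecidableEq α]

theorem card_centralizer_alt (g : alternatingGroup α) :
    Nat.card (centralizer ({g} : Set (alternatingGroup α))) =
      Nat.card ↥(centralizer ({(g : Equiv.Perm α)} : Set (Equiv.Perm α)) ⊓ alternatingGroup α) := by
  have h1 : (centralizer ({g} : Set (alternatingGroup α))).map (alternatingGroup α).subtype =
      centralizer ({(g : Equiv.Perm α)} : Set (Equiv.Perm α)) ⊓ alternatingGroup α := by
    ext x
    rw [mem_map, mem_inf, mem_centralizer_singleton_iff]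
    constructor
    · rintro ⟨y, hy, rfl⟩
      rw [mem_centralizer_singleton_iff] at hy
      exact ⟨congrArg Subtype.val hy, y.2⟩
    · rintro ⟨h2, h3⟩
      exact ⟨⟨x, h3⟩, mem_centralizer_singleton_iff.2 (Subtype.ext h2), rfl⟩
  rw [← h1, Subgroup.card_map_of_injective (Subgroup.subtype_injective _)]

theorem card_centralizer_alt_dvd (g : alternatingGroup α) :
    Nat.card (centralizer ({g} : Set (alternatingGroup α))) ∣
      Nat.card (centralizer ({(g : Equiv.Perm α)} : Set (Equiv.Perm α))) := by
  rw [card_centralizer_alt]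
  exact card_dvd_of_le inf_le_left

theorem two_mul_card_centralizer_alt [Nontrivial α] (g : alternatingGroup α)
    (h : ¬ centralizer ({(g : Equiv.Perm α)} : Set (Equiv.Perm α)) ≤ alternatingGroup α) :
    Nat.card (centralizer ({g} : Set (alternatingGroup α))) * 2 =
      Nat.card (centralizer ({(g : Equiv.Perm α)} : Set (Equiv.Perm α))) := by
  set H := centralizer ({(g : Equiv.Perm α)} : Set (Equiv.Perm α)) with hH
  have h1 : (alternatingGroup α).relIndex H ∣ 2 := by
    have := relIndex_dvd_index_of_normal (alternatingGroup α) H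
    rwa [alternatingGroup.index_eq_two] at this
  have h2 : (alternatingGroup α).relIndex H ≠ 1 := fun h3 => h (relIndex_eq_one.1 h3)
  have h3 : (alternatingGroup α).relIndex H = 2 := ((Nat.dvd_prime Nat.prime_two).1 h1).resolve_left h2
  have h4 := ((alternatingGroup α).subgroupOf H).card_mul_index
  have h5 : ((alternatingGroup α).subgroupOf H).index = 2 := h3
  rw [h5] at h4
  rw [card_centralizer_alt, ← h4, ← hH, inf_comm]
  congr 1
  rw [← Subgroup.subgroupOf_map_subtype, Subgroup.card_map_of_injective (Subgroup.subtype_injective _)]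

theorem isConj_alt (g h : alternatingGroup α) (hc : IsConj (g : Equiv.Perm α) (h : Equiv.Perm α))
    (hn : ¬ centralizer ({(g : Equiv.Perm α)} : Set (Equiv.Perm α)) ≤ alternatingGroup α) : IsConj g h := by
  obtain ⟨x, hx⟩ := isConj_iff.1 hc
  obtain ⟨y, hy, hy1⟩ := Set.not_subset.1 hn
  have hys : Equiv.Perm.sign y = -1 := by
    rcases Int.units_eq_one_or (Equiv.Perm.sign y) with h1 | h1
    · exact absurd (mem_alternatingGroup.2 h1) hy1
    · exact h1
  have hyc : y * g = g * y := mem_centralizer_singleton_iff.1 hy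
  rcases Int.units_eq_one_or (Equiv.Perm.sign x) with h1 | h1
  · exact isConj_iff.2 ⟨⟨x, mem_alternatingGroup.2 h1⟩, Subtype.ext hx⟩
  · refine isConj_iff.2 ⟨⟨x * y, ?_⟩, Subtype.ext ?_⟩
    · rw [mem_alternatingGroup, map_mul, h1, hys, Int.units_mul_self]
    · show x * y * g * (x * y)⁻¹ = h
      rw [← hx, mul_assoc x y, hyc]
      group

theorem isConj_inv_perm (g : Equiv.Perm α) : IsConj g g⁻¹ := by
  rw [isConj_iff_cycleType_eq, cycleType_inv]

/-- a cycle of length `q`, `n / 2 < q ≤ n - 2` -/
theorem row_alt_two_cycle {n q : ℕ} [hq : Fact q.Prime] (hq2 : q ≠ 2) (h1 : n < 2 * q) (h2 : q + 2 ≤ n) :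
    Row 2 (alternatingGroup (Fin n)) := by
  obtain ⟨g, hg⟩ := (Equiv.Perm.exists_with_cycleType_iff (Fin n) (m := {q})).2 (by
    rw [Fintype.card_fin, Multiset.sum_singleton]
    exact ⟨by omega, fun a ha => by rw [Multiset.mem_singleton.1 ha]; exact hq.out.two_le⟩)
  have hodd := hq.out.odd_of_ne_two hq2
  have hord : orderOf g = q := by
    rw [← lcm_cycleType, hg]; simp
  have hgA : g ∈ alternatingGroup (Fin n) := by
    rw [mem_alternatingGroup, sign_of_cycleType, hg]
    simp only [Multiset.sum_singleton, Multiset.card_singleton]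
    rw [Even.neg_one_pow]
    exact hodd.add_one
  set g' : alternatingGroup (Fin n) := ⟨g, hgA⟩ with hg'
  have hnle : ¬ centralizer ({(g' : Equiv.Perm (Fin n))} : Set (Equiv.Perm (Fin n))) ≤ alternatingGroup (Fin n) := by
    intro h
    have h3 := card_le_of_centralizer_le_alternating h
    rw [hg, Fintype.card_fin, Multiset.sum_singleton] at h3
    omega
  have hord' : orderOf g' = q := by rw [hg', ← Subgroup.orderOf_coe]; exact hord
  have hC : Nat.card (centralizer ({g} : Set (Equiv.Perm (Fin n)))) = (n - q).factorial * q := by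
    rw [nat_card_centralizer, hg]
    simp
  refine Row.intro hq.out hq2 ?_ (BD.of_real_nilpotent hq2 (g := g') ⟨1, by rw [hord', pow_one]⟩ ?_ ?_ ?_)
  · rw [← hord']; exact orderOf_dvd_natCard _
  · intro h
    rw [h, orderOf_one] at hord'
    exact hq.out.one_lt.ne hord'
  · exact isConj_alt g' g'⁻¹ (isConj_inv_perm g) hnle
  · have hz : g' ∈ centralizer ({g'} : Set (alternatingGroup (Fin n))) := mem_centralizer_singleton_iff.2 rfl
    apply index_pPrimeCore_of_central (⟨g', hz⟩ : centralizer ({g'} : Set (alternatingGroup (Fin n))))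
    · rw [Subgroup.orderOf_mk]; exact hord'
    · intro x
      exact Subtype.ext (mem_centralizer_singleton_iff.1 x.2)
    · intro h
      have h3 := h.trans (card_centralizer_alt_dvd g')
      have h4 : Nat.card (centralizer ({(g' : Equiv.Perm (Fin n))} : Set (Equiv.Perm (Fin n)))) =
        (n - q).factorial * q := hC
      rw [h4, pow_two] at h3
      have h5 := Nat.dvd_of_mul_dvd_mul_right hq.out.pos h3
      have h6 := (hq.out.dvd_factorial).1 h5
      omega

/-- two cycles of length `q`, `n = 2 q` or `n = 2 q + 1` -/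
theorem row_alt_two_cycles {n q : ℕ} [hq : Fact q.Prime] (hq2 : q ≠ 2) (h1 : 2 * q ≤ n) (h2 : n ≤ 2 * q + 1) :
    Row 2 (alternatingGroup (Fin n)) := by
  have : Nontrivial (Fin n) := Fin.nontrivial_iff_two_le.2 (by have := hq.out.two_le; omega)
  obtain ⟨g, hg⟩ := (Equiv.Perm.exists_with_cycleType_iff (Fin n) (m := {q, q})).2 (by
    rw [Fintype.card_fin]
    simp only [Multiset.insert_eq_cons, Multiset.sum_cons, Multiset.sum_singleton, Multiset.mem_cons,
      Multiset.mem_singleton]
    exact ⟨by omega, fun a ha => by rcases ha with rfl | rfl <;> exact hq.out.two_le⟩)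
  have hodd := hq.out.odd_of_ne_two hq2
  have hord : orderOf g = q := by
    rw [← lcm_cycleType, hg]; simp
  have hgA : g ∈ alternatingGroup (Fin n) := by
    rw [mem_alternatingGroup, sign_of_cycleType, hg]
    simp only [Multiset.insert_eq_cons, Multiset.sum_cons, Multiset.sum_singleton, Multiset.card_cons,
      Multiset.card_singleton]
    rw [Even.neg_one_pow]
    exact ⟨q + 1, by ring⟩
  set g' : alternatingGroup (Fin n) := ⟨g, hgA⟩ with hg'
  have hnle : ¬ centralizer ({(g' : Equiv.Perm (Fin n))} : Set (Equiv.Perm (Fin n))) ≤ alternatingGroup (Fin n) := by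
    intro h
    have h3 := count_le_one_of_centralizer_le_alternating h q
    rw [show ((g' : Equiv.Perm (Fin n))).cycleType = {q, q} from hg] at h3
    simp at h3
  have hord' : orderOf g' = q := by rw [hg', ← Subgroup.orderOf_coe]; exact hord
  have hC : Nat.card (centralizer ({g} : Set (Equiv.Perm (Fin n)))) = q ^ 2 * 2 := by
    rw [nat_card_centralizer, hg, Fintype.card_fin]
    have h3 : (n - (({q, q} : Multiset ℕ)).sum).factorial = 1 := by
      simp only [Multiset.insert_eq_cons, Multiset.sum_cons, Multiset.sum_singleton]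
      rcases (by omega : n - (q + q) = 0 ∨ n - (q + q) = 1) with h4 | h4 <;> rw [h4] <;> rfl
    rw [h3]
    have h4 : (({q, q} : Multiset ℕ)).toFinset = {q} := by ext; simp
    rw [h4, Finset.prod_singleton]
    have h5 : (({q, q} : Multiset ℕ)).count q = 2 := by simp
    rw [h5]
    simp only [Multiset.insert_eq_cons, Multiset.prod_cons, Multiset.prod_singleton, Nat.factorial_two]
    ring
  have hC' := two_mul_card_centralizer_alt g' hnle
  have hC'' : Nat.card (centralizer ({(g' : Equiv.Perm (Fin n))} : Set (Equiv.Perm (Fin n)))) = q ^ 2 * 2 := hC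
  rw [hC''] at hC'
  have hC3 := Nat.eq_of_mul_eq_mul_right two_pos hC'
  refine Row.of_real_odd (q := q) (g := g') ⟨1, by rw [hord', pow_one]⟩ ?_ ?_ ?_
  · intro h
    rw [h, orderOf_one] at hord'
    exact hq.out.one_lt.ne hord'
  · exact isConj_alt g' g'⁻¹ (isConj_inv_perm g) hnle
  · rw [hC3]; exact hodd.pow

/-- **`Row 2` for the alternating groups.** -/
theorem row_alt_two {n : ℕ} (hn : 5 ≤ n) : Row 2 (alternatingGroup (Fin n)) := by
  rcases Nat.lt_or_ge n 6 with h | h
  · have : Fact (Nat.Prime 3) := ⟨Nat.prime_three⟩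
    exact row_alt_two_cycle (q := 3) (by norm_num) (by omega) (by omega)
  · obtain ⟨q, hq, h1, h2⟩ := Nat.exists_prime_lt_and_le_two_mul (n / 2 - 1) (by omega)
    have := Fact.mk hq
    have hq2 : q ≠ 2 := by omega
    rcases Nat.lt_or_ge n (2 * q) with h3 | h3
    · exact row_alt_two_cycle hq2 h3 (by omega)
    · exact row_alt_two_cycles hq2 h3 (by omega)

end Cfsg.Agent.H133.PB
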