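import Cfsg.Agent.H133.PB.Basic
import Cfsg.Agent.H330.Gow

/-!
# The rows of the primes `p ≠ r` for groups of Lie type of characteristic `r` (helper133)

* `row_cross` : `IM p G` gives `Row p G` (with `q = r`): the Steinberg character is the only one outside the
  principal `r`-block, by helper330's `Gow` files.
-/

set_option autoImplicit false

namespace Cfsg.Agent.H133.PB

open Cfsg Cfsg.Agent Subgroup

universe u

/-- In a group of Lie type of characteristic `r`, all characters of degree not a power of `r` are in the principal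
`r`-block. -/
theorem mem_principal_of_lie {G : Type u} [Group G] [Finite G] {r p : ℕ} (hr : r.Prime) (hp : p.Prime) (hpr : p ≠ r)
    (hG : IsLieTypeChar r G) (χ : IrrCharacter G) (hχ : p ∣ charDegree (χ : G → ℂ)) {M : Ideal AlgInt}
    (hM : IsPModular r M) : χ ∈ principalBlock M G := by
  have : Fact r.Prime := ⟨hr⟩
  have : IsSimpleGroup G := H400.LieSimple.isSimple_of_lie hG
  have hS := H716.SplitAb.hasSplitAb_of_lie hr hG
  have hS' := H330.Gow.hasSplit_of_ab hS
  have hdvd := H330.Gow.dvd_card hS'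
  obtain ⟨ψ, hψ, hψ1, -⟩ := H330.GowSt.exists_st_of_hasSplit hS'
  let st : IrrCharacter G := ⟨ψ, hψ⟩
  have hdeg : charDegree ψ = r ^ (Nat.card G).factorization r := Blocks.Basic.charDegree_of_eq hψ1
  have hst : ¬ r ∣ Nat.card G / charDegree (st : G → ℂ) := by
    rw [H143.ChevBlocks.not_dvd_iff st.2]
    show _ ≤ (charDegree ψ).factorization r
    rw [hdeg, hr.factorization_pow]
    simp
  have huniq : ∀ φ : IrrCharacter G, ¬ r ∣ Nat.card G / charDegree (φ : G → ℂ) → φ = st := fun φ hφ =>
    H330.GowOne.unique_of_hasSplitAb hS (H330.Gow.perfect_of_split hS') φ st hφ hst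
  refine H330.GowBlock.mem_principal hM hdvd (H330.Gow.locChar_of_lie hG) (H400.LieLocal.center_eq_bot hS') st hst
    huniq χ ?_
  rintro rfl
  have h1 : p ∣ charDegree ψ := hχ
  rw [hdeg] at h1
  exact hpr ((Nat.prime_dvd_prime_iff_eq hp hr).1 (hp.dvd_of_dvd_pow h1))

/-- **`Row p G` for the groups of Lie type of characteristic `r ≠ p`.** -/
theorem row_cross {G : Type u} [Group G] [Finite G] {r p : ℕ} (hr : r.Prime) (hp : p.Prime) (hpr : p ≠ r)
    (hG : IsLieTypeChar r G) (h : H33.IM p G) : Row p G := by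
  have : Fact r.Prime := ⟨hr⟩
  have : IsSimpleGroup G := H400.LieSimple.isSimple_of_lie hG
  have hS := H716.SplitAb.hasSplitAb_of_lie hr hG
  obtain ⟨χ, hχ⟩ := h
  exact ⟨r, hr, hpr.symm, H330.Gow.dvd_card (H330.Gow.hasSplit_of_ab hS), fun M hM =>
    ⟨χ, mem_principal_of_lie hr hp hpr hG χ hχ hM, hχ⟩⟩

end Cfsg.Agent.H133.PB
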