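import Cfsg.Agent.H133.PB.Basic
import Cfsg.Agent.H133.PB.RegSum
import Cfsg.Agent.H33.RD
import Cfsg.Agent.H649.PairInduced
import Cfsg.Agent.S0922
import Cfsg.Agent.S0952
import Cfsg.Agent.S0914
import Cfsg.Agent.S0152
import Cfsg.Agent.Blocks.PPart

/-!
# Lifting members of principal `q`-blocks from centralizers of `p`-elements (helper133)

`p ≠ q` primes, `D` a `p`-subgroup, `x ∈ D` with `C_G(x) = C_G(D) = H`, `θ ∈ Irr(H)` of `p`-defect zero modulo `D` in the
principal `q`-block of `H`, every `p`-element of `N_G(D)` in `H`, and `D` not a Sylow subgroup: some member of the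
principal `q`-block of `G` has degree divisible by `p`.
-/

set_option autoImplicit false

open Cfsg

namespace Cfsg.Agent.H133.PB

open Cfsg.Agent.Characters.Core Cfsg.Agent.Blocks.Basic Cfsg.Agent.Blocks.Local
open scoped ComplexConjugate

universe u

variable {G : Type u} [Group G] [Finite G]

/-- The indicator of the `q`-regular elements is a combination of members of the principal `q`-block: a functional
vanishing on the principal `q`-block vanishes on it. -/
theorem functional_zero {q : ℕ} [hq : Fact q.Prime] {M : Ideal AlgInt} (hM : IsPModular q M)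
    {X : Type*} [Fintype X] (f : X → G) (c : X → ℂ)
    (h : ∀ χ : IrrCharacter G, χ ∈ principalBlock M G → ∑ k : X, c k * (χ : G → ℂ) (f k) = 0) :
    ∑ k : X with ¬ q ∣ orderOf (f k), c k = 0 := by
  classical
  have := Fintype.ofFinite G
  have : Finite (IrrCharacter G) := finite_irr
  have := Fintype.ofFinite (IrrCharacter G)
  set φ : G → ℂ := fun g => if ¬ q ∣ orderOf g then 1 else 0 with hφ
  have hcl : IsClassFunction G φ := by
    rw [isClassFunction_def]
    intro g k
    simp only [hφ]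
    rw [show orderOf (k * g * k⁻¹) = orderOf g from (MulAut.conj k).orderOf_eq g]
  have hexp := S0152.result φ hcl
  have hco : ∀ χ : IrrCharacter G, χ ∉ principalBlock M G → classInner φ (χ : G → ℂ) = 0 := by
    intro χ hχ
    have h1 := S0952.result q M hM ⟨_, isIrrCharacter_one⟩ χ hχ
    rw [finsum_mem_eq_finite_toFinset_sum _ (Set.toFinite _)] at h1
    unfold classInner
    have h2 : ∑ g : G, φ g * conj ((χ : G → ℂ) g) = 0 := by
      rw [← h1, ← Finset.sum_filter_add_sum_filter_not Finset.univ (fun g : G => ¬ q ∣ orderOf g)]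
      have h3 : ∑ g : G with ¬ ¬ q ∣ orderOf g, φ g * conj ((χ : G → ℂ) g) = 0 := by
        refine Finset.sum_eq_zero fun g hg => ?_
        simp only [Finset.mem_filter, Finset.mem_univ, true_and] at hg
        simp only [hφ]
        rw [if_neg hg, zero_mul]
      rw [h3, add_zero]
      refine Finset.sum_congr ?_ fun g hg => ?_
      · ext g
        simp
      · simp only [Set.Finite.mem_toFinset, Set.mem_ofPred_eq] at hg
        simp only [hφ]
        rw [if_pos hg]
    rw [h2, mul_zero]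
  have hkey : ∀ g : G, φ g = ∑ χ : IrrCharacter G, classInner φ (χ : G → ℂ) * (χ : G → ℂ) g := by
    intro g
    have h1 := congrFun hexp g
    rw [finsum_eq_sum_of_fintype, Finset.sum_apply] at h1
    rw [h1]
    rfl
  have h5 : ∑ k : X, c k * φ (f k) = 0 := by
    simp_rw [hkey, Finset.mul_sum]
    rw [Finset.sum_comm]
    refine Finset.sum_eq_zero fun χ _ => ?_
    by_cases hχ : χ ∈ principalBlock M G
    · have h6 := h χ hχ
      calc ∑ k : X, c k * (classInner φ (χ : G → ℂ) * (χ : G → ℂ) (f k))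
          = classInner φ (χ : G → ℂ) * ∑ k : X, c k * (χ : G → ℂ) (f k) := by
            rw [Finset.mul_sum]
            exact Finset.sum_congr rfl fun k _ => by ring
        _ = 0 := by rw [h6, mul_zero]
    · refine Finset.sum_eq_zero fun k _ => ?_
      rw [hco χ hχ]
      ring
  rw [← h5, Finset.sum_filter]
  refine Finset.sum_congr rfl fun k _ => ?_
  simp only [hφ]
  split_ifs <;> ring

/-- Two members of the principal `q`-block in the same `p`-block agree, if one has `p`-defect zero modulo a central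
`p`-subgroup. -/
theorem eq_of_mem_block {p q : ℕ} [hp : Fact p.Prime] [hq : Fact q.Prime] (hqp : q ≠ p) (Z : Subgroup G)
    (hZc : Z ≤ Subgroup.center G) (hZp : IsPGroup p Z) {Mp Mq : Ideal AlgInt} (hMp : IsPModular p Mp)
    (hMq : IsPModular q Mq) {θ ψ : IrrCharacter G} (hsame : SameBlock Mp (θ : G → ℂ) (ψ : G → ℂ))
    (hθ : θ ∈ principalBlock Mq G) (hψ : ψ ∈ principalBlock Mq G)
    (hdeg : (Nat.card G).factorization p ≤
      (charDegree (θ : G → ℂ)).factorization p + (Nat.card Z).factorization p) : ψ = θ := by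
  classical
  have hn : Z.Normal := ⟨fun z hz g => by
    rw [Subgroup.mem_center_iff.1 (hZc hz) g, mul_inv_cancel_right]
    exact hz⟩
  have := Fintype.ofFinite G
  have hMpp : Mp.IsPrime := isPrime_of_isPModular hMp
  obtain ⟨k, hk⟩ := IsPGroup.iff_card.1 hZp
  have hqZ : ¬ q ∣ Nat.card Z := by
    rw [hk]
    intro h
    exact hqp ((Nat.prime_dvd_prime_iff_eq hq.out hp.out).1 (hq.out.dvd_of_dvd_pow h))
  obtain ⟨θ', rfl⟩ := H633.Principal.exists_infl Z θ
    (fun n hn => Cfsg.Agent.Blocks.PrincipalKernel.principalBlock_apply_eq hMq hqZ hθ hn)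
  obtain ⟨ψ', rfl⟩ := H633.Principal.exists_infl Z ψ
    (fun n hn => Cfsg.Agent.Blocks.PrincipalKernel.principalBlock_apply_eq hMq hqZ hψ hn)
  have hcen : (Subgroup.centralizer (Z : Set G)).index = p ^ 0 := by
    rw [pow_zero, Subgroup.index_eq_one, Subgroup.eq_top_iff']
    intro g
    rw [Subgroup.mem_centralizer_iff]
    intro z hz
    exact (Subgroup.mem_center_iff.1 (hZc hz) g).symm
  have h1 := ((S0941.result p Mp hMp Z hZp ⟨0, hcen⟩).1 θ' ψ').2 hsame
  have hd : charDegree (H633.Principal.infl Z θ' : G → ℂ) = charDegree (θ' : G ⧸ Z → ℂ) := rfl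
  have hpos : charDegree (θ' : G ⧸ Z → ℂ) ≠ 0 := (charDegree_pos θ'.2).ne'
  have hdv := Cfsg.Agent.Blocks.Knorr.charDegree_dvd θ'.2
  have h2 : ¬ p ∣ Nat.card (G ⧸ Z) / charDegree (θ' : G ⧸ Z → ℂ) := by
    intro h
    obtain ⟨c, hc⟩ := hdv
    rw [hc, Nat.mul_div_cancel_left _ (Nat.pos_of_ne_zero hpos)] at h
    have hc0 : c ≠ 0 := by
      rintro rfl
      rw [mul_zero] at hc
      exact Nat.card_pos.ne' hc
    have h3 : 1 ≤ c.factorization p := (hp.out.dvd_iff_one_le_factorization hc0).1 h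
    have h4 : Nat.card G = Nat.card (G ⧸ Z) * Nat.card Z := Subgroup.card_eq_card_quotient_mul_card_subgroup Z
    rw [hd, h4, hc, Nat.factorization_mul (mul_ne_zero hpos hc0) Nat.card_pos.ne',
      Nat.factorization_mul hpos hc0, Finsupp.add_apply, Finsupp.add_apply] at hdeg
    omega
  have h3 := (S0914.result p Mp hMp θ').1 h2
  have h4 : ψ' ∈ blockOf Mp (θ' : G ⧸ Z → ℂ) := h1
  rw [h3] at h4
  rw [Set.mem_singleton_iff.1 h4]

local notation "Cn(" Q ")" => Subgroup.centralizer ((Q : Subgroup G) : Set G)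

/-- **T3 for principal `q`-blocks.** -/
theorem BD.of_local {p q : ℕ} [hp : Fact p.Prime] [hq : Fact q.Prime] (hqp : q ≠ p) (D : Subgroup G)
    (hD : IsPGroup p D) (hidx : p ∣ D.index) {x : G} (hxD : x ∈ D)
    (hx : Subgroup.centralizer ({x} : Set G) ≤ Subgroup.centralizer (D : Set G))
    (θ : IrrCharacter (Subgroup.centralizer (D : Set G)))
    (hdeg : (Nat.card (Subgroup.centralizer (D : Set G))).factorization p ≤
      (charDegree (θ : Subgroup.centralizer (D : Set G) → ℂ)).factorization p +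
      (Nat.card ↥(D ⊓ Subgroup.centralizer (D : Set G))).factorization p)
    (hst : ∀ g : G, g ∈ Subgroup.normalizer (D : Set G) → (∃ k : ℕ, orderOf g = p ^ k) →
      g ∈ D ⊔ Subgroup.centralizer (D : Set G))
    (hθ : ∀ M : Ideal AlgInt, IsPModular q M →
      θ ∈ principalBlock M (Subgroup.centralizer (D : Set G))) : BD p q G := by
  classical
  obtain ⟨M, hM⟩ := Cfsg.Agent.Blocks.Knorr.exists_isPModular p
  have hMpp : M.IsPrime := isPrime_of_isPModular hM
  set e : Set (IrrCharacter Cn(D)) := blockOf M (θ : Cn(D) → ℂ) with he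
  have heB : IsPBlock M e := ⟨θ, rfl⟩
  have hθe : θ ∈ e := sameBlock_refl _
  have hcD : Nat.card (D.subgroupOf Cn(D)) = Nat.card ↥(D ⊓ Cn(D)) := H686.PairCrit.card_subgroupOf_eq D Cn(D)
  -- the reverse inequality
  have hZc : D.subgroupOf Cn(D) ≤ Subgroup.center Cn(D) := Cfsg.Agent.H686.PairCrit.subgroupOf_le_center D
  have hZp : IsPGroup p (D.subgroupOf Cn(D)) := hD.comap_of_injective (Cn(D)).subtype (Cn(D)).subtype_injective
  have hrev : (charDegree (θ : Cn(D) → ℂ)).factorization p +
      (Nat.card ↥(D ⊓ Cn(D))).factorization p ≤ (Nat.card Cn(D)).factorization p := by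
    have hn : (D.subgroupOf Cn(D)).Normal := ⟨fun z hz g => by
      rw [Subgroup.mem_center_iff.1 (hZc hz) g, mul_inv_cancel_right]
      exact hz⟩
    obtain ⟨d, ρ, hρ, hχ⟩ := θ.2
    have hdvd := Cfsg.Agent.S0169.result ρ (D.subgroupOf Cn(D))
      (fun a ha b _ => ((Subgroup.mem_center_iff.1 (hZc ha)) b).symm)
    have h2 : charDegree (θ : Cn(D) → ℂ) = d := by
      apply H670.PSing.charDegree_eq_of
      rw [← hχ, Representation.char_one]
      simp
    rw [Module.finrank_fin_fun, ← h2] at hdvd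
    have h3 := (Nat.factorization_le_iff_dvd
      (Cfsg.Agent.Blocks.Basic.charDegree_pos θ.2).ne' Subgroup.index_ne_zero_of_finite).2 hdvd p
    have h6 := (D.subgroupOf Cn(D)).card_mul_index
    rw [← h6, hcD, Nat.factorization_mul Nat.card_pos.ne' Subgroup.index_ne_zero_of_finite,
      Finsupp.add_apply]
    omega
  obtain ⟨B, hB⟩ := Cfsg.Agent.H686.PairCrit.crit_mpr hM (Q := D) (e := e) ⟨hD, heB⟩ hθe
    (le_antisymm hrev hdeg) (fun g hg _ hk => hst g hg hk)
  have hdef := Cfsg.Agent.H644.isDefectGroup_of_isMaximalBrauerPair hM hB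
  have hBb : IsPBlock M B := hB.1.2.1
  have hind : IsInducedBlock M Cn(D) e B :=
    (Cfsg.Agent.H649.isBrauerPairOf_iff_isInducedBlock hM hBb hD heB).1 hB.1
  -- degrees in `B`
  have hBdeg : ∀ χ ∈ B, p ∣ charDegree (χ : G → ℂ) := by
    intro χ hχ
    have h1 := Cfsg.Agent.H592.Defect.le_degree_add p hM hBb hdef hχ
    have h2 := D.card_mul_index
    rw [← h2, Nat.factorization_mul Nat.card_pos.ne' Subgroup.index_ne_zero_of_finite,
      Finsupp.add_apply] at h1
    have h3 : 1 ≤ D.index.factorization p :=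
      (hp.out.dvd_iff_one_le_factorization Subgroup.index_ne_zero_of_finite).1 hidx
    exact (hp.out.dvd_iff_one_le_factorization (charDegree_pos χ.2).ne').2 (by omega)
  intro Mq hMq
  by_contra hcon
  push Not at hcon
  have hMqp : Mq.IsPrime := isPrime_of_isPModular hMq
  have := Fintype.ofFinite Cn(D)
  have : Finite (IrrCharacter Cn(D)) := finite_irr
  have := Fintype.ofFinite (IrrCharacter Cn(D))
  -- the element `x`
  obtain ⟨j, hj⟩ := (IsPGroup.iff_orderOf.1 hD) ⟨x, hxD⟩
  rw [Subgroup.orderOf_mk] at hj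
  have hxH : x ∈ Cn(D) := hx (Subgroup.mem_centralizer_singleton_iff.2 rfl)
  have hqx : ¬ q ∣ orderOf x := by
    rw [hj]
    intro h
    exact hqp ((Nat.prime_dvd_prime_iff_eq hq.out hp.out).1 (hq.out.dvd_of_dvd_pow h))
  have hzero : ∀ χ : IrrCharacter G, χ ∈ principalBlock Mq G →
      ∑ k : Cn(D), blockCoeff e k * (χ : G → ℂ) ((k : G) * x) = 0 := by
    intro χ hχ
    have h1 := S0922.result p M hM Cn(D) e B hind ⟨x, hxH⟩ (by
      intro z hz
      have h2 := Cfsg.Agent.Blocks.PPart.isPPart_unique hz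
        (Cfsg.Agent.Blocks.PPart.isPPart_of_isPGroup ⟨j, hj⟩)
      rw [h2]
      exact hx) χ (fun h => hcon χ hχ (hBdeg χ h))
    rwa [finsum_eq_sum_of_fintype] at h1
  have hsum := functional_zero hMq (fun k : Cn(D) => (k : G) * x) (fun k => blockCoeff e k) hzero
  -- rewrite the sum over the `q`-regular elements of `Cn(D)`
  have hbc : ∀ k : Cn(D), p ∣ orderOf k → blockCoeff e k = 0 := by
    intro k hk
    have h1 := S0907.result p M hM e heB 1 k
      (by rw [orderOf_one]; exact hp.out.one_lt.ne' ∘ Nat.dvd_one.1) hk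
    rw [blockCoeff_def, h1, mul_zero]
  have hsum2 : ∑ k : Cn(D) with ¬ q ∣ orderOf k, blockCoeff e k = 0 := by
    rw [← hsum, Finset.sum_filter, Finset.sum_filter]
    refine Finset.sum_congr rfl fun k _ => ?_
    by_cases hk : p ∣ orderOf k
    · rw [hbc k hk]
      split_ifs <;> rfl
    · have h1 : orderOf ((k : G) * x) = orderOf (k : G) * orderOf x := by
        apply Commute.orderOf_mul_eq_mul_orderOf_of_coprime
        · exact ((Subgroup.mem_centralizer_iff.1 k.2) x hxD).symm
        · rw [hj, Subgroup.orderOf_coe]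
          exact Nat.Coprime.pow_right _ ((Nat.Prime.coprime_iff_not_dvd hp.out).2 hk).symm
      have h2 : (¬ q ∣ orderOf k) ↔ (¬ q ∣ orderOf ((k : G) * x)) := by
        rw [h1, Subgroup.orderOf_coe, hq.out.dvd_mul]
        tauto
      rw [if_congr h2 rfl rfl]
  -- expand the idempotent coefficients
  have hexp : ∀ k : Cn(D), blockCoeff e k = (Nat.card Cn(D) : ℂ)⁻¹ *
      ∑ ψ : IrrCharacter Cn(D) with ψ ∈ e, (ψ : Cn(D) → ℂ) 1 * conj ((ψ : Cn(D) → ℂ) k) :=
    fun k => Cfsg.Agent.Blocks.Orthogonality.blockCoeff_eq_sum e k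
  simp_rw [hexp] at hsum2
  rw [← Finset.mul_sum, Finset.sum_comm] at hsum2
  have hcH : (Nat.card Cn(D) : ℂ)⁻¹ ≠ 0 := inv_ne_zero (by exact_mod_cast Nat.card_pos.ne')
  have hsum3 := (mul_eq_zero.1 hsum2).resolve_left hcH
  -- only `θ` contributes
  have honly : ∀ ψ ∈ Finset.univ.filter (fun ψ : IrrCharacter Cn(D) => ψ ∈ e), ψ ≠ θ →
      ∑ k : Cn(D) with ¬ q ∣ orderOf k, (ψ : Cn(D) → ℂ) 1 * conj ((ψ : Cn(D) → ℂ) k) = 0 := by
    intro ψ hψ hne
    simp only [Finset.mem_filter, Finset.mem_univ, true_and] at hψ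
    have hnot : ψ ∉ principalBlock Mq Cn(D) := by
      intro h
      exact hne (eq_of_mem_block hqp (D.subgroupOf Cn(D)) hZc hZp hM hMq hψ (hθ Mq hMq) h
        (by rw [hcD]; exact hdeg))
    have h1 := S0952.result q Mq hMq ⟨_, isIrrCharacter_one⟩ ψ hnot
    rw [finsum_mem_eq_finite_toFinset_sum _ (Set.toFinite _)] at h1
    rw [← Finset.mul_sum]
    have h2 : ∑ k : Cn(D) with ¬ q ∣ orderOf k, conj ((ψ : Cn(D) → ℂ) k) = 0 := by
      rw [← h1]
      refine Finset.sum_congr ?_ fun g _ => ?_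
      · ext g
        simp
      · simp
    rw [h2, mul_zero]
  rw [Finset.sum_eq_single θ honly (fun h => absurd (by simpa using hθe) h), ← Finset.mul_sum,
    ← map_sum] at hsum3
  rcases mul_eq_zero.1 hsum3 with h | h
  · exact irr_one_ne_zero θ.2 h
  · rw [map_eq_zero] at h
    exact sum_regular_ne_zero hMq (hθ Mq hMq) h

end Cfsg.Agent.H133.PB
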